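import Groth.Agent.H4DR.BC.Core
import Groth.Agent.H26Tor.BaseChange
import Groth.Prelude.Def_TrivBC

/-!
# The base change comparison for Tor independent squares
-/

set_option autoImplicit false
set_option linter.style.haveILetI false
set_option backward.isDefEq.respectTransparency false

universe u

open CategoryTheory CategoryTheory.Limits
open Groth.Agent.H16Derived

attribute [local instance] HasDerivedCategory.standard

namespace Groth.Agent.H4DR.BC

open Groth.Agent.H4DR.KFlatMod (bi)

section Adj

variable {R S : Type u} [CommRing R] [CommRing S] (φ : R →+* S) [DRing.HasLBaseChange φ]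

theorem exists_iso_unit (adj : DRing.LBaseChange φ ⊣ DRing.restrictD φ) (P : DRing.Cx R)
    (hP : KFlat.IsKFlat (bi R) P) :
    ∃ e : (DRing.LBaseChange φ).obj (DerivedCategory.Q.obj P) ≅ DerivedCategory.Q.obj ((DTen.extCx φ).obj P),
      adj.unit.app (DerivedCategory.Q.obj P) ≫ (DRing.restrictD φ).map e.hom =
        DerivedCategory.Q.map ((DTen.unitCx φ).app P) ≫ (DTen.resFactors φ).inv.app ((DTen.extCx φ).obj P) := by
  haveI := H25DTen.isIso_baseα φ P hP
  refine ⟨((adj.leftAdjointUniq (H25DTen.baseAdj' φ)).app (DerivedCategory.Q.obj P)) ≪≫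
    asIso ((H25DTen.baseα φ).app P), ?_⟩
  rw [Iso.trans_hom, Iso.app_hom, asIso_hom, Functor.map_comp, ← Category.assoc]
  erw [Adjunction.unit_leftAdjointUniq_hom_app, H25DTen.baseAdj'_fac]

end Adj

variable {R A R' A' : Type u} [CommRing R] [CommRing A] [CommRing R'] [CommRing A']
  [Algebra R A] [Algebra R R'] [Algebra A A'] [Algebra R' A'] [Algebra R A'] [IsScalarTower R A A']
  [IsScalarTower R R' A'] [Algebra.IsPushout R A R' A']
  (h : (algebraMap A A').comp (algebraMap R A) = (algebraMap R' A').comp (algebraMap R R'))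

/-- The two restrictions from `A'` to `R`, on complexes. -/
noncomputable def cIso :
    (ModuleCat.restrictScalars.{u} (algebraMap A A')).mapHomologicalComplex (ComplexShape.up ℤ) ⋙
        (ModuleCat.restrictScalars.{u} (algebraMap R A)).mapHomologicalComplex (ComplexShape.up ℤ) ≅
      (ModuleCat.restrictScalars.{u} (algebraMap R' A')).mapHomologicalComplex (ComplexShape.up ℤ) ⋙
        (ModuleCat.restrictScalars.{u} (algebraMap R R')).mapHomologicalComplex (ComplexShape.up ℤ) :=
  Functor.mapHomologicalComplexCompIso (TrivBC.resCommMod h) (ComplexShape.up ℤ) ≪≫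
    (Functor.mapHomologicalComplexCompIso
      (Iso.refl (ModuleCat.restrictScalars.{u} (algebraMap R' A') ⋙
        ModuleCat.restrictScalars.{u} (algebraMap R R'))) (ComplexShape.up ℤ)).symm

/-- The comparison of the two extensions of scalars, on complexes. -/
noncomputable def γ (P : DRing.Cx A) :
    (DTen.extCx (algebraMap R R')).obj ((DTen.resCx (algebraMap R A)).obj P) ⟶
      (DTen.resCx (algebraMap R' A')).obj ((DTen.extCx (algebraMap A A')).obj P) :=
  ((H25DTen.adjCx (algebraMap R R')).homEquiv _ _).symm
    ((DTen.resCx (algebraMap R A)).map ((DTen.unitCx (algebraMap A A')).app P) ≫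
      (cIso h).hom.app ((DTen.extCx (algebraMap A A')).obj P))

theorem γ_f_tmul (P : DRing.Cx A) (i : ℤ) (r : R') (m : P.X i) :
    letI : Module R (P.X i) := Module.compHom _ (algebraMap R A)
    ((γ h P).f i).hom (H26Tor.extendEquiv ((ModuleCat.restrictScalars.{u} (algebraMap R A)).obj (P.X i))
        (TensorProduct.tmul R r m)) =
      H26Tor.extendEquiv (P.X i) (TensorProduct.tmul A (algebraMap R' A' r * 1) m) :=
  rfl

theorem isIso_γ (P : DRing.Cx A) : IsIso (γ h P) := by
  haveI : ∀ i, IsIso ((γ h P).f i) := fun i => by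
    letI : Module R (P.X i) := Module.compHom _ (algebraMap R A)
    haveI : IsScalarTower R A (P.X i) := IsScalarTower.of_algebraMap_smul fun _ _ => rfl
    haveI : Algebra.IsPushout R R' A A' := Algebra.IsPushout.symm inferInstance
    let E₁ := H26Tor.extendEquiv (A := R) (A' := R') ((ModuleCat.restrictScalars.{u} (algebraMap R A)).obj (P.X i))
    let E₂ := H26Tor.extendEquiv (A := A) (A' := A') (P.X i)
    let C := Algebra.IsPushout.cancelBaseChangeAux R R' A A' (P.X i)
    refine (ConcreteCategory.isIso_iff_bijective _).2 ?_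
    have key : ∀ z : TensorProduct R R' (P.X i), ((γ h P).f i).hom (E₁ z) = E₂ (C.symm z) := by
      intro z
      refine TensorProduct.induction_on z ?_ (fun r m => ?_) (fun a b ha hb => ?_)
      · exact ((congrArg _ (map_zero E₁)).trans (map_zero _)).trans
          (((congrArg E₂ (map_zero C.symm)).trans (map_zero E₂)).symm)
      · refine (γ_f_tmul h P i r m).trans ?_
        rw [Algebra.IsPushout.cancelBaseChangeAux_symm_tmul, mul_one]
      · exact ((congrArg _ (map_add E₁ a b)).trans (map_add _ _ _)).trans (((congrArg₂ (· + ·) ha hb)).trans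
          (((congrArg E₂ (map_add C.symm a b)).trans (map_add E₂ _ _)).symm))
    refine ⟨fun a b hab => ?_, fun y => ?_⟩
    · obtain ⟨a, rfl⟩ := E₁.surjective a
      obtain ⟨b, rfl⟩ := E₁.surjective b
      rw [C.symm.injective (E₂.injective ((key a).symm.trans (hab.trans (key b))))]
    · obtain ⟨z, rfl⟩ := E₂.surjective y
      exact ⟨E₁ (C z), (key (C z)).trans (congrArg E₂ (C.symm_apply_apply z))⟩
  exact HomologicalComplex.Hom.isIso_of_components _

variable [DRing.HasLBaseChange (algebraMap R R')] [DRing.HasLBaseChange (algebraMap A A')]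
  (adjρ : DRing.LBaseChange (algebraMap R R') ⊣ DRing.restrictD (algebraMap R R'))
  (adjα : DRing.LBaseChange (algebraMap A A') ⊣ DRing.restrictD (algebraMap A A'))

theorem resComm_app (E : DRing.Cx A') :
    (TrivBC.resComm h).hom.app (DerivedCategory.Q.obj E) =
      (DRing.restrictD (algebraMap R A)).map ((DTen.resFactors (algebraMap A A')).hom.app E) ≫
      (DTen.resFactors (algebraMap R A)).hom.app ((DTen.resCx (algebraMap A A')).obj E) ≫
      DerivedCategory.Q.map ((cIso h).hom.app E) ≫
      (DTen.resFactors (algebraMap R R')).inv.app ((DTen.resCx (algebraMap R' A')).obj E) ≫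
      (DRing.restrictD (algebraMap R R')).map ((DTen.resFactors (algebraMap R' A')).inv.app E) := by
  rw [TrivBC.resComm, Localization.liftNatIso_hom, Localization.liftNatTrans_app]
  show ((TrivBC.liftingRes₂ (algebraMap A A') (algebraMap R A)).iso).hom.app E ≫ (TrivBC.resCommCx h).hom.app E ≫
    ((TrivBC.liftingRes₂ (algebraMap R' A') (algebraMap R R')).iso).inv.app E = _
  delta TrivBC.liftingRes₂
  simp [TrivBC.resCommCx, cIso]

theorem isIso_cmp_Q (htor : ∀ p : ℕ, 0 < p → Subsingleton (DRing.Tor R p A R'))
    (P : DRing.Cx A) (hP : KFlat.IsKFlat (bi A) P) :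
    IsIso (TrivBC.cmp adjρ adjα h (DerivedCategory.Q.obj P)) := by
  let Z := (DTen.resCx (algebraMap R A)).obj P
  let Q := (H25DTen.res R).obj Z
  let ψ : Q ⟶ Z := (H25DTen.resψ R).app Z
  haveI : QuasiIso ψ := H25DTen.quasiIso_resψ Z
  let E := (DTen.extCx (algebraMap A A')).obj P
  obtain ⟨eα, hα⟩ := exists_iso_unit (algebraMap A A') adjα P hP
  obtain ⟨eρ, hρ⟩ := exists_iso_unit (algebraMap R R') adjρ Q (H25DTen.isKFlat_res Z)
  let g : (DTen.extCx (algebraMap R R')).obj Q ⟶ (DTen.resCx (algebraMap R' A')).obj E :=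
    (DTen.extCx (algebraMap R R')).map ψ ≫ γ h P
  haveI : QuasiIso g := by
    haveI := isIso_γ h P
    have hN : ∀ p : ℕ, 0 < p → Subsingleton (DRing.Tor R p A
        ((ModuleCat.restrictScalars.{u} (algebraMap R R')).obj (ModuleCat.of R' R'))) := fun p hp => by
      haveI := htor p hp
      let e : ModuleCat.of R R' ≅ (ModuleCat.restrictScalars.{u} (algebraMap R R')).obj (ModuleCat.of R' R') :=
        (LinearEquiv.toModuleIso (X₁ := ModuleCat.of R R')
          (X₂ := (ModuleCat.restrictScalars.{u} (algebraMap R R')).obj (ModuleCat.of R' R'))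
          { toFun := fun x => x, invFun := fun x => x, map_add' := fun _ _ => rfl,
            map_smul' := fun a x => Algebra.smul_def a x, left_inv := fun _ => rfl, right_inv := fun _ => rfl })
      exact (((Tor (ModuleCat.{u} R) p).obj (ModuleCat.of R A)).mapIso e).toLinearEquiv.symm.injective.subsingleton
    haveI := quasiIso_ext_of_tor (A := A) (algebraMap R R') hN P hP Q (H25DTen.isKFlat_res Z) ψ
    exact quasiIso_comp _ _
  haveI := H25DTen.isIso_Q_map g inferInstance
  haveI := H25DTen.isIso_Q_map ψ inferInstance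
  let b : DerivedCategory.Q.obj Q ≅ (DRing.restrictD (algebraMap R A)).obj (DerivedCategory.Q.obj P) :=
    asIso (DerivedCategory.Q.map ψ) ≪≫ ((DTen.resFactors (algebraMap R A)).app P).symm
  let tail := (DRing.restrictD (algebraMap R' A')).map eα.hom ≫ (DTen.resFactors (algebraMap R' A')).hom.app E
  have key : (DRing.LBaseChange (algebraMap R R')).map b.hom ≫
      TrivBC.cmp adjρ adjα h (DerivedCategory.Q.obj P) ≫ tail = eρ.hom ≫ DerivedCategory.Q.map g := by
    apply (adjρ.homEquiv _ _).injective
    rw [adjρ.homEquiv_naturality_left, adjρ.homEquiv_naturality_right, TrivBC.cmp, Equiv.apply_symm_apply,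
      adjρ.homEquiv_unit, Functor.map_comp]
    have hR : adjρ.unit.app (DerivedCategory.Q.obj Q) ≫ (DRing.restrictD (algebraMap R R')).map eρ.hom ≫
        (DRing.restrictD (algebraMap R R')).map (DerivedCategory.Q.map g) =
        DerivedCategory.Q.map ψ ≫ DerivedCategory.Q.map
          ((DTen.resCx (algebraMap R A)).map ((DTen.unitCx (algebraMap A A')).app P) ≫ (cIso h).hom.app E) ≫
        (DTen.resFactors (algebraMap R R')).inv.app ((DTen.resCx (algebraMap R' A')).obj E) := by
      rw [reassoc_of% hρ]
      erw [← (DTen.resFactors (algebraMap R R')).inv.naturality g]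
      rw [← Category.assoc, ← Category.assoc]
      refine congrArg (· ≫ _) ?_
      refine (DerivedCategory.Q.map_comp _ _).symm.trans ((congrArg DerivedCategory.Q.map ?_).trans
        (DerivedCategory.Q.map_comp _ _))
      refine ((H25DTen.adjCx (algebraMap R R')).homEquiv_unit _ _ _).symm.trans ?_
      rw [(H25DTen.adjCx (algebraMap R R')).homEquiv_naturality_left, γ, Equiv.apply_symm_apply]
    rw [Functor.map_comp _ eρ.hom, hR]
    have hn := (TrivBC.resComm h).hom.naturality eα.hom
    rw [Category.assoc]
    simp only [tail, Functor.map_comp]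
    erw [← reassoc_of% hn]
    rw [resComm_app]
    simp only [Category.assoc, Functor.comp_map]
    rw [← Functor.map_comp_assoc, ← Functor.map_comp_assoc]
    rw [hα]
    simp [b, E, Z]
    erw [(DTen.resFactors (algebraMap R A)).hom.naturality_assoc ((DTen.unitCx (algebraMap A A')).app P)]
    simp
  haveI : IsIso ((DRing.LBaseChange (algebraMap R R')).map b.hom ≫
      TrivBC.cmp adjρ adjα h (DerivedCategory.Q.obj P) ≫ tail) := by
    rw [key]
    infer_instance
  haveI : IsIso (TrivBC.cmp adjρ adjα h (DerivedCategory.Q.obj P) ≫ tail) :=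
    IsIso.of_isIso_comp_left ((DRing.LBaseChange (algebraMap R R')).map b.hom) _
  exact IsIso.of_isIso_comp_right _ tail

include h in
theorem isIso_cmp (htor : ∀ p : ℕ, 0 < p → Subsingleton (DRing.Tor R p A R')) (K : Dual.D A) :
    IsIso (TrivBC.cmp adjρ adjα h K) := by
  let X := DerivedCategory.Q.objPreimage K
  haveI := H25DTen.quasiIso_resψ X
  let P := (H25DTen.res A).obj X
  let e : DerivedCategory.Q.obj P ≅ K :=
    asIso (DerivedCategory.Q.map ((H25DTen.resψ A).app X)) ≪≫ DerivedCategory.Q.objObjPreimageIso K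
  haveI := isIso_cmp_Q h adjρ adjα htor P (H25DTen.isKFlat_res X)
  have hn : (DRing.LBaseChange (algebraMap R R')).map ((DRing.restrictD (algebraMap R A)).map e.hom) ≫
      TrivBC.cmp adjρ adjα h K = TrivBC.cmp adjρ adjα h (DerivedCategory.Q.obj P) ≫
        (DRing.restrictD (algebraMap R' A')).map ((DRing.LBaseChange (algebraMap A A')).map e.hom) := by
    rw [TrivBC.cmp, TrivBC.cmp, ← adjρ.homEquiv_naturality_left_symm, ← adjρ.homEquiv_naturality_right_symm]
    refine congrArg _ ?_
    have h1 := adjα.unit.naturality e.hom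
    have h2 := (TrivBC.resComm h).hom.naturality ((DRing.LBaseChange (algebraMap A A')).map e.hom)
    rw [← Category.assoc, ← Functor.map_comp]
    erw [h1]
    rw [Functor.map_comp, Category.assoc, Category.assoc]
    exact congrArg (_ ≫ ·) h2
  haveI : IsIso ((DRing.LBaseChange (algebraMap R R')).map ((DRing.restrictD (algebraMap R A)).map e.hom) ≫
      TrivBC.cmp adjρ adjα h K) := by
    rw [hn]
    infer_instance
  exact IsIso.of_isIso_comp_left ((DRing.LBaseChange (algebraMap R R')).map
    ((DRing.restrictD (algebraMap R A)).map e.hom)) _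

end Groth.Agent.H4DR.BC
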