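import Groth.Agent.H4DR.TorAmp.FlatTower
import Groth.Agent.H16Derived.BaseChange.AffineSingle

/-!
# Tor independent base change of K-flat complexes
-/

set_option autoImplicit false
set_option linter.style.haveILetI false
set_option backward.isDefEq.respectTransparency false

universe u

open CategoryTheory CategoryTheory.Limits MonoidalCategory
open Groth.Agent.H16Derived

attribute [local instance] HasDerivedCategory.standard

namespace Groth.Agent.H4DR.BC

open Groth.Agent.H4DR.KFlatMod (bi)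

variable {R A B : Type u} [CommRing R] [CommRing A] [CommRing B]

theorem projCx_naturality (φ : R →+* A) (Y : DRing.Cx A) {K K' : DRing.Cx R} (s : K ⟶ K') :
    ((DTen.resCx φ).obj Y ◁ s) ≫ H25DTen.projCx φ Y K' =
      H25DTen.projCx φ Y K ≫ (DTen.resCx φ).map (Y ◁ (DTen.extCx φ).map s) := by
  have h := DTen.resTenCx_naturality φ (𝟙 Y) ((DTen.extCx φ).map s)
  rw [CategoryTheory.Functor.map_id, MonoidalCategory.id_tensorHom, MonoidalCategory.id_tensorHom] at h
  rw [H25DTen.projCx, H25DTen.projCx, ← Category.assoc, ← MonoidalCategory.whiskerLeft_comp]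
  erw [show s ≫ (DTen.unitCx φ).app K' = (DTen.unitCx φ).app K ≫ (DTen.resCx φ).map ((DTen.extCx φ).map s) from
    (DTen.unitCx φ).naturality s]
  rw [MonoidalCategory.whiskerLeft_comp, Category.assoc, Category.assoc]
  exact congrArg (_ ≫ ·) h

theorem quasiIso_resCx_iff (φ : R →+* A) {X Y : DRing.Cx A} (f : X ⟶ Y) :
    QuasiIso ((DTen.resCx φ).map f) ↔ QuasiIso f :=
  HomologicalComplex.quasiIso_map_iff_of_preservesHomology f (ModuleCat.restrictScalars.{u} φ)

theorem quasiIso_whiskerRight_res (φ : R →+* A) (Y : DRing.Cx A) (hY : KFlat.IsKFlat (bi A) Y)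
    {K K' : DRing.Cx R} (s : K ⟶ K') (hs : QuasiIso ((DTen.extCx φ).map s)) :
    QuasiIso (s ▷ (DTen.resCx φ).obj Y) := by
  haveI := hs
  haveI := H25DTen.quasiIso_whiskerLeft Y hY ((DTen.extCx φ).map s)
  haveI := (quasiIso_resCx_iff φ (Y ◁ (DTen.extCx φ).map s)).2 inferInstance
  haveI := H25DTen.isIso_projCx φ Y K
  haveI := H25DTen.isIso_projCx φ Y K'
  haveI : QuasiIso (((DTen.resCx φ).obj Y ◁ s) ≫ H25DTen.projCx φ Y K') := by
    rw [projCx_naturality]
    exact quasiIso_comp _ _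
  haveI : QuasiIso ((DTen.resCx φ).obj Y ◁ s) := quasiIso_of_comp_right _ (H25DTen.projCx φ Y K')
  have h := DTen.braidCx_naturality s (𝟙 ((DTen.resCx φ).obj Y))
  rw [MonoidalCategory.tensorHom_id, MonoidalCategory.id_tensorHom] at h
  haveI : QuasiIso ((s ▷ (DTen.resCx φ).obj Y) ≫ (DTen.braidCx K' ((DTen.resCx φ).obj Y)).hom) := by
    rw [h]
    exact quasiIso_comp _ _
  exact quasiIso_of_comp_right _ (DTen.braidCx K' ((DTen.resCx φ).obj Y)).hom

theorem singleLeftIso_naturality (L : DRing.Cx R) (hL : ∀ p, p ≠ 0 → IsZero (L.X p)) {W W' : DRing.Cx R}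
    (f : W ⟶ W') :
    (((bi R).obj (L.X 0)).mapHomologicalComplex (ComplexShape.up ℤ)).map f ≫
        (KFlat.singleLeftIso (bi R) L W' hL).hom =
      (KFlat.singleLeftIso (bi R) L W hL).hom ≫ (L ◁ f) :=
  HomologicalComplex.hom_ext _ _ fun n =>
    (KFlat.ι_tot_map (F := bi R) L f 0 n n (zero_add n)).symm

/-- `extendScalars` inverts the K-flat resolution of a restricted K-flat complex, given Tor independence. -/
theorem quasiIso_ext_of_tor [Algebra R A] (ρ : R →+* B)
    (htor : ∀ p : ℕ, 0 < p → Subsingleton (DRing.Tor R p A ((ModuleCat.restrictScalars.{u} ρ).obj (ModuleCat.of B B))))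
    (P : DRing.Cx A) (hP : KFlat.IsKFlat (bi A) P) (Q : DRing.Cx R) (hQ : KFlat.IsKFlat (bi R) Q)
    (ψ : Q ⟶ (DTen.resCx (algebraMap R A)).obj P) [QuasiIso ψ] :
    QuasiIso ((DTen.extCx ρ).map ψ) := by
  let N := (ModuleCat.restrictScalars.{u} ρ).obj (ModuleCat.of B B)
  let Z := (DTen.resCx (algebraMap R A)).obj P
  let S := (CochainComplex.singleFunctor (ModuleCat.{u} R) 0).obj N
  obtain ⟨L⟩ : Nonempty (ProjectiveResolution N) := HasProjectiveResolution.out
  have hF : TorAmp.IsProjRep L.cochainComplex 0 :=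
    ⟨fun i hi => L.cochainComplex.isZero_of_isStrictlyLE 0 i hi, fun i =>
      (IsProjective.iff_projective _).2 (inferInstanceAs (Projective (L.cochainComplex.X i)))⟩
  haveI hs := quasiIso_whiskerRight_res (algebraMap R A) P hP L.π'
    (BaseChange.quasiIso_extend_π' N L htor)
  haveI := H25DTen.quasiIso_whiskerLeft L.cochainComplex (TorAmp.isKFlat_of_flat hF.above hF.flat) ψ
  haveI := KFlatMod.quasiIso_whiskerRight hQ L.π'
  haveI : QuasiIso ((L.π' ▷ Q) ≫ (S ◁ ψ)) := by
    rw [← whisker_exchange]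
    exact quasiIso_comp _ _
  haveI : QuasiIso (S ◁ ψ) := quasiIso_of_comp_left (L.π' ▷ Q) _
  have hS : ∀ p, p ≠ 0 → IsZero (S.X p) := fun p hp => HomologicalComplex.isZero_single_obj_X _ _ _ _ hp
  haveI : QuasiIso ((((bi R).obj (S.X 0)).mapHomologicalComplex (ComplexShape.up ℤ)).map ψ ≫
      (KFlat.singleLeftIso (bi R) S Z hS).hom) := by
    rw [singleLeftIso_naturality]
    exact quasiIso_comp _ _
  haveI h1 : QuasiIso ((((bi R).obj (S.X 0)).mapHomologicalComplex (ComplexShape.up ℤ)).map ψ) :=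
    quasiIso_of_comp_right _ (KFlat.singleLeftIso (bi R) S Z hS).hom
  let T := NatIso.mapHomologicalComplex ((H25DTen.TT R).mapIso
    (HomologicalComplex.singleObjXSelf (ComplexShape.up ℤ) 0 N) ≪≫ (H25DTen.extResIso ρ).symm)
      (ComplexShape.up ℤ)
  haveI : QuasiIso ((T.app Q).hom ≫ (DTen.resCx ρ).map ((DTen.extCx ρ).map ψ)) := by
    rw [show (T.app Q).hom ≫ (DTen.resCx ρ).map ((DTen.extCx ρ).map ψ) =
      (((bi R).obj (S.X 0)).mapHomologicalComplex (ComplexShape.up ℤ)).map ψ ≫ (T.app Z).hom from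
        (T.hom.naturality ψ).symm]
    exact quasiIso_comp (hφ := h1) _ _
  exact (quasiIso_resCx_iff ρ _).1 (quasiIso_of_comp_left (T.app Q).hom _)

end Groth.Agent.H4DR.BC
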